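import Cfsg.Agent.H203.LSTor_m3
import Cfsg.Agent.H203.LSSz
import Cfsg.Agent.KFacts.TwF4.Torus
import Cfsg.Agent.S1072
import Cfsg.Agent.FastGrp
import Cfsg.Agent.Prune
set_option linter.all false
prune_inst 0x7f00000000000000000000000000000000000000000000000000000000000000000000000000000000000000000000000000000000000000000000000000000000000000000000000000000000000000003fffffffffffffffffffffffffffbeffbdffffffff
open scoped Cfsg.Agent.FastGrp

/-!
# `²F₄(q)`, `q ≥ 8`: the bound `(q - 1) q ^ 2`, arbitrary kernels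
-/

set_option autoImplicit false
set_option linter.dupNamespace false
set_option linter.style.haveILetI false

universe u v w

namespace Cfsg.Agent.H203.LS.TwF4

open Cfsg.Lie Cfsg.Agent.KFacts.TwF4 Cfsg.Agent.KFacts.TwF4.Inst Cfsg.Agent.Octagon.Pkg

section

variable {F : Type u} [Field F] {σ : F →+* F} {T : Type u} [Group T] (S : Sys σ T)

/-- a torus with the right characters -/
def Tor (S : Sys σ T) : Prop := ∀ c d : Fˣ, ∃ h : T, (∀ a x, h * S.o a x * h⁻¹ = S.o a ((chO σ a c d : F) * x)) ∧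
  ∀ a p u, h * S.e a p u * h⁻¹ = S.e a ((chE σ a c d : F) * p) ((chE σ a c d : F) * σ (chE σ a c d : F) * u)

theorem e_zero (a : ZMod 8) : S.e a 0 0 = 1 := by
  have := S.e_mul a 0 0 0 0
  simp only [add_zero, map_zero, mul_zero] at this
  exact mul_eq_left.1 this

theorem o_zero (a : ZMod 8) : S.o a 0 = 1 := by
  have := S.o_add a 0 0
  rw [add_zero] at this
  exact mul_eq_left.1 this

variable (h2 : (2 : F) = 0)

theorem neg_eq (h2 : (2 : F) = 0) (x : F) : -x = x := by linear_combination (-x) * h2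

/-- `X` -/
theorem X_add (s t : F) : S.e 1 0 (s + t) = S.e 1 0 s * S.e 1 0 t := by
  rw [S.e_mul]; simp

include h2 in
theorem X_inv (s : F) : (S.e 1 0 s)⁻¹ = S.e 1 0 s := by
  rw [← add_map_neg (X_add S), neg_eq h2]

theorem comm_of {a b c : T} (h : a * b = b * a * c) (h1 : a * c = c * a) (h3 : b * c = c * b) :
    a * b * a⁻¹ * b⁻¹ = c := by
  calc a * b * a⁻¹ * b⁻¹ = (b * (a * c)) * a⁻¹ * b⁻¹ := by rw [h]; group
    _ = (b * c) * b⁻¹ := by rw [h1]; group
    _ = c := by rw [h3]; group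

-- the commuting relations
theorem XA0 (s t : F) : S.e 1 0 s * S.o 0 t = S.o 0 t * S.e 1 0 s := (S.o_e1 0 t 0 s).symm
theorem XA1 (s t : F) : S.e 1 0 s * S.o 1 t = S.o 1 t * S.e 1 0 s := S.e_o0 1 0 s t
theorem XB0 (s q v : F) : S.e 1 0 s * S.e 2 q v = S.e 2 q v * S.e 1 0 s := by
  have := S.e_e1 1 0 s q v
  rw [zero_mul, o_zero, mul_one] at this
  exact this
theorem XB1 (s q v : F) : S.e 1 0 s * S.e 0 q v = S.e 0 q v * S.e 1 0 s := by
  have := S.e_e1 0 q v 0 s
  rw [mul_zero, o_zero, mul_one, zero_add] at this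
  exact this.symm
theorem A0A1 (s t : F) : S.o 0 s * S.o 1 t = S.o 1 t * S.o 0 s := S.o_o1 0 s t
theorem B1A0 (p u t : F) : S.e 0 p u * S.o 0 t = S.o 0 t * S.e 0 p u := S.e_o0 0 p u t
theorem B0A1 (q v t : F) : S.e 2 q v * S.o 1 t = S.o 1 t * S.e 2 q v := (S.o_e1 1 t q v).symm
theorem B0B1 (p u q v : F) : S.e 0 p u * S.e 2 q v = S.e 2 q v * S.e 0 p u := S.e_e2 0 p u q v

theorem c0 (t q : F) : S.o 0 t * S.e 2 q 0 * (S.o 0 t)⁻¹ * (S.e 2 q 0)⁻¹ = S.e 1 0 (t * q) :=
  comm_of (S.o_e2 0 t q 0) (XA0 S _ _).symm (XB0 S _ _ _).symm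

include h2 in
theorem c1 (t q : F) : S.o 1 t * S.e 0 q 0 * (S.o 1 t)⁻¹ * (S.e 0 q 0)⁻¹ = S.e 1 0 (t * q) := by
  have h := comm_of (S.e_o1 0 q 0 t) (XB1 S _ _ _).symm (XA1 S _ _).symm
  have h3 := congrArg (fun x : T => x⁻¹) h
  beta_reduce at h3
  rw [zero_add, X_inv S h2] at h3
  rw [mul_comm t, ← h3]
  group

theorem cA0 (s : F) : S.e 0 1 0 * S.e 1 s 0 * (S.e 0 1 0)⁻¹ * (S.e 1 s 0)⁻¹ = S.o 0 s := by
  have h := comm_of (S.e_e1 0 1 0 s 0) (S.e_o0 0 1 0 _) ((S.o_e1 0 _ s 0).symm)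
  rw [one_mul, zero_add] at h
  exact h

theorem cA1 (s : F) : S.e 1 1 0 * S.e 2 s 0 * (S.e 1 1 0)⁻¹ * (S.e 2 s 0)⁻¹ = S.o 1 s := by
  have h := comm_of (S.e_e1 1 1 0 s 0) (S.e_o0 1 1 0 _) ((S.o_e1 1 _ s 0).symm)
  rw [one_mul] at h
  exact h

-- strong commuting
theorem sXX (s t : F) : SC.{u, v} (S.e 1 0 s) (S.e 1 0 t) := by
  have h := c0 S s 1
  rw [mul_one] at h
  rw [← h]
  exact SC.of_commutator (XA0 S _ _).symm (XB0 S _ _ _).symm

include h2 in
theorem sXA0 (s t : F) : SC.{u, v} (S.e 1 0 s) (S.o 0 t) := by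
  have h := c1 S h2 s 1
  rw [mul_one] at h
  rw [← h]
  exact SC.of_commutator (A0A1 S _ _).symm (B1A0 S _ _ _)

theorem sXA1 (s t : F) : SC.{u, v} (S.e 1 0 s) (S.o 1 t) := by
  have h := c0 S s 1
  rw [mul_one] at h
  rw [← h]
  exact SC.of_commutator (A0A1 S _ _) (B0A1 S _ _ _)

include h2 in
theorem sXB0 (s q : F) : SC.{u, v} (S.e 1 0 s) (S.e 2 q 0) := by
  have h := c1 S h2 s 1
  rw [mul_one] at h
  rw [← h]
  exact SC.of_commutator (B0A1 S _ _ _).symm (B0B1 S _ _ _ _)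

theorem sXB1 (s q : F) : SC.{u, v} (S.e 1 0 s) (S.e 0 q 0) := by
  have h := c0 S s 1
  rw [mul_one] at h
  rw [← h]
  exact SC.of_commutator (B1A0 S _ _ _).symm (B0B1 S _ _ _ _).symm

theorem sA00 (s t : F) : SC.{u, v} (S.o 0 s) (S.o 0 t) := by
  rw [← cA0 S s]
  exact SC.of_commutator (S.e_o0 0 1 0 t) (S.o_e1 0 t s 0).symm

theorem sA11 (s t : F) : SC.{u, v} (S.o 1 s) (S.o 1 t) := by
  rw [← cA1 S s]
  exact SC.of_commutator (S.e_o0 1 1 0 t) (S.o_e1 1 t s 0).symm

variable (hσ : ∀ x, σ (σ x) = x ^ 2) (hT : Tor S) {d : Fˣ} (hd : d ≠ 1)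

include hσ in
theorem dσ_ne {d : F} (hd0 : d ≠ 0) (hd : d ≠ 1) : d * σ d ≠ 1 := by
  intro h
  have h1 : σ d = d⁻¹ := eq_inv_of_mul_eq_one_right h
  have h2 := hσ d
  rw [h1, map_inv₀, h1, inv_inv] at h2
  apply hd
  have h3 : d * (d - 1) = 0 := by linear_combination -h2
  exact sub_eq_zero.1 ((mul_eq_zero.1 h3).resolve_left hd0)

include hσ h2 in
theorem ddσ_ne {d : F} (hd0 : d ≠ 0) (hd : d ≠ 1) : d ^ 2 * σ d ≠ 1 := by
  intro h
  have h1 : σ d = (d ^ 2)⁻¹ := eq_inv_of_mul_eq_one_right h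
  have h3 := hσ d
  rw [h1, map_inv₀, map_pow, h1, inv_pow, inv_inv] at h3
  apply hd
  have h4 : (d * (d - 1)) ^ 2 = 0 := by linear_combination h3 - (d ^ 3 - d ^ 2) * h2
  have h5 := pow_eq_zero_iff (two_ne_zero) |>.1 h4
  exact sub_eq_zero.1 ((mul_eq_zero.1 h5).resolve_left hd0)

theorem o_add' (a : ZMod 8) (s t : F) : S.o a (s + t) = S.o a s * S.o a t := (S.o_add a s t).symm

include hσ hT hd h2 in
theorem sA01 (s t : F) : SC.{u, v} (S.o 0 s) (S.o 1 t) := by
  obtain ⟨h, h1, -⟩ := hT d⁻¹ d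
  have hd' : (d : F) ≠ 1 := fun h => hd (Units.ext h)
  refine SC.torus (o_add' S 1) (z := (chO σ 1 d⁻¹ d : F)) (h := h) ?_ (fun u => A0A1 S s u) ?_ (fun u => h1 1 u) t
  · have : (chO σ 1 d⁻¹ d : F) = (d : F) ^ 2 * σ d := by
      show ((d * (Units.map (σ : F →* F) d / d⁻¹) : Fˣ) : F) = _
      rw [div_inv_eq_mul]
      push_cast
      simp only [Units.coe_map, MonoidHom.coe_coe]
      ring
    rw [this]
    exact ddσ_ne h2 hσ d.ne_zero hd'
  · rw [h1]
    have : (chO σ 0 d⁻¹ d : F) = 1 := by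
      show ((d⁻¹ * d : Fˣ) : F) = 1
      rw [inv_mul_cancel, Units.val_one]
    rw [this, one_mul]

include hT hd in
theorem sB1A0 (p t : F) : SC.{u, v} (S.e 0 p 0) (S.o 0 t) := by
  obtain ⟨h, h1, h3⟩ := hT 1 d
  have hd' : (d : F) ≠ 1 := fun h => hd (Units.ext h)
  refine SC.torus (o_add' S 0) (z := (chO σ 0 1 d : F)) (h := h) ?_ (fun u => B1A0 S p 0 u) ?_ (fun u => h1 0 u) t
  · have : (chO σ 0 1 d : F) = d := by
      show ((1 * d : Fˣ) : F) = _
      rw [one_mul]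
    rw [this]
    exact hd'
  · rw [h3]
    have : (chE σ 0 1 d : F) = 1 := rfl
    rw [this, one_mul, mul_zero]

include hT hd in
theorem sB0A1 (q t : F) : SC.{u, v} (S.e 2 q 0) (S.o 1 t) := by
  obtain ⟨h, h1, h3⟩ := hT (Units.map (σ : F →* F) d) d
  have hd' : (d : F) ≠ 1 := fun h => hd (Units.ext h)
  refine SC.torus (o_add' S 1) (z := (chO σ 1 (Units.map (σ : F →* F) d) d : F)) (h := h) ?_
    (fun u => B0A1 S q 0 u) ?_ (fun u => h1 1 u) t
  · have : (chO σ 1 (Units.map (σ : F →* F) d) d : F) = d := by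
      show ((d * (Units.map (σ : F →* F) d / Units.map (σ : F →* F) d) : Fˣ) : F) = _
      rw [div_self', mul_one]
    rw [this]
    exact hd'
  · rw [h3]
    have : (chE σ 2 (Units.map (σ : F →* F) d) d : F) = 1 := by
      show ((Units.map (σ : F →* F) d / Units.map (σ : F →* F) d : Fˣ) : F) = 1
      rw [div_self', Units.val_one]
    rw [this, one_mul, mul_zero]

include hσ hT hd in
theorem sC0A0 (v t : F) : SC.{u, v} (S.e 2 0 v) (S.o 0 t) := by
  obtain ⟨h, h1, h3⟩ := hT (Units.map (σ : F →* F) d) d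
  have hd' : (d : F) ≠ 1 := fun h => hd (Units.ext h)
  refine SC.torus (o_add' S 0) (z := (chO σ 0 (Units.map (σ : F →* F) d) d : F)) (h := h) ?_
    (fun u => ?_) ?_ (fun u => h1 0 u) t
  · have : (chO σ 0 (Units.map (σ : F →* F) d) d : F) = d * σ d := by
      show ((Units.map (σ : F →* F) d * d : Fˣ) : F) = _
      rw [mul_comm]; rfl
    rw [this]
    exact dσ_ne hσ d.ne_zero hd'
  · have := S.o_e2 0 u 0 v
    rw [mul_zero, e_zero, mul_one, zero_add] at this
    exact this.symm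
  · rw [h3]
    have : (chE σ 2 (Units.map (σ : F →* F) d) d : F) = 1 := by
      show ((Units.map (σ : F →* F) d / Units.map (σ : F →* F) d : Fˣ) : F) = 1
      rw [div_self', Units.val_one]
    rw [this, one_mul, map_one, one_mul, one_mul]

include hσ hT hd in
theorem sC1A1 (v t : F) : SC.{u, v} (S.e 0 0 v) (S.o 1 t) := by
  obtain ⟨h, h1, h3⟩ := hT 1 d
  have hd' : (d : F) ≠ 1 := fun h => hd (Units.ext h)
  refine SC.torus (o_add' S 1) (z := (chO σ 1 1 d : F)) (h := h) ?_ (fun u => ?_) ?_ (fun u => h1 1 u) t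
  · have : (chO σ 1 1 d : F) = d * σ d := by
      show ((d * (Units.map (σ : F →* F) d / 1) : Fˣ) : F) = _
      rw [div_one]; rfl
    rw [this]
    exact dσ_ne hσ d.ne_zero hd'
  · have := S.e_o1 0 0 v u
    rw [zero_mul, e_zero, mul_one, zero_add] at this
    exact this
  · rw [h3]
    have : (chE σ 0 1 d : F) = 1 := rfl
    rw [this, one_mul, map_one, one_mul, one_mul]

/-- the `A`s -/
def A (S : Sys σ T) : Fin 2 → F → T := ![fun t => S.o 0 t, fun t => S.o 1 t]
/-- the `B`s -/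
def B (S : Sys σ T) : Fin 2 → F → T := ![fun t => S.e 2 t 0, fun t => S.e 0 t 0]

theorem closure_ne_zero (F : Type*) [Field F] : Subring.closure {t : F | t ≠ 0} = ⊤ := by
  rw [eq_top_iff]
  intro x _
  by_cases hx : x = 0
  · rw [hx]; exact Subring.zero_mem _
  · exact Subring.subset_closure hx

include hσ hT hd h2 in
theorem heisG [Finite T] [Finite F] : HeisG.{u, v} (S.e 1 0) (A S) (B S) (fun _ (a b : F) => a * b) := by
  have hd' : (d : F) ≠ 1 := fun h => hd (Units.ext h)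
  have hc2 : CharP F 2 := CharTwo.of_one_ne_zero_of_two_eq_zero one_ne_zero h2
  refine ⟨sXX S, ?_, ?_, ?_, ?_, ?_⟩
  · rw [Fin.forall_fin_two]
    exact ⟨sXA0 S h2, sXA1 S⟩
  · rw [Fin.forall_fin_two]
    exact ⟨sXB0 S h2, sXB1 S⟩
  · rw [Fin.forall_fin_two]
    constructor
    · rw [Fin.forall_fin_two]
      exact ⟨sA00 S, sA01 S h2 hσ hT hd⟩
    · rw [Fin.forall_fin_two]
      exact ⟨fun a b => (sA01 S h2 hσ hT hd b a).symm, sA11 S⟩
  · rw [Fin.forall_fin_two]
    constructor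
    · rw [Fin.forall_fin_two]
      exact ⟨fun h => absurd rfl h, fun _ => sB0A1 S hT hd⟩
    · rw [Fin.forall_fin_two]
      exact ⟨fun _ => sB1A0 S hT hd, fun h => absurd rfl h⟩
  · intro P _ π hπ hc
    obtain ⟨X₀, a1, a2, a3⟩ := hat_torus' (X := S.e 1 0) (A := A S 0) (B := B S 0) Nat.prime_two hπ hc (o_add' S 0)
      (fun s t => ⟨S.e 2 0 (s * σ t), by
        show S.e 2 s 0 * S.e 2 t 0 = S.e 2 (s + t) 0 * S.e 2 0 (s * σ t)
        rw [S.e_mul, S.e_mul]; simp, fun a => sC0A0 S hσ hT hd _ _⟩) (c0 S) (sXA0 S h2) (sXB0 S h2)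
      (closure_ne_zero F) (by
        intro t ht
        obtain ⟨h, h1, h3⟩ := hT (Units.mk0 t ht) 1
        refine ⟨ht, h, fun a => ?_, fun b => ?_⟩
        · refine (h1 0 a).trans ?_
          show S.o 0 _ = S.o 0 _
          congr 2
          show ((Units.mk0 t ht * 1 : Fˣ) : F) = t
          rw [mul_one, Units.val_mk0]
        · refine (h3 2 b 0).trans ?_
          show S.e 2 _ _ = S.e 2 _ 0
          rw [mul_zero]
          congr 2
          show ((Units.map (σ : F →* F) 1 / Units.mk0 t ht : Fˣ) : F) = t⁻¹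
          rw [map_one, one_div, Units.val_inv_eq_inv_val, Units.val_mk0])
    obtain ⟨X₁, b1, b2, b3⟩ := hat_torus' (X := S.e 1 0) (A := A S 1) (B := B S 1) Nat.prime_two hπ hc (o_add' S 1)
      (fun s t => ⟨S.e 0 0 (s * σ t), by
        show S.e 0 s 0 * S.e 0 t 0 = S.e 0 (s + t) 0 * S.e 0 0 (s * σ t)
        rw [S.e_mul, S.e_mul]; simp, fun a => sC1A1 S hσ hT hd _ _⟩) (c1 S h2) (sXA1 S) (sXB1 S)
      (closure_ne_zero F) (by
        intro t ht
        obtain ⟨h, h1, h3⟩ := hT (Units.mk0 t ht)⁻¹ 1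
        refine ⟨ht, h, fun a => ?_, fun b => ?_⟩
        · refine (h1 1 a).trans ?_
          show S.o 1 _ = S.o 1 _
          congr 2
          show ((1 * (Units.map (σ : F →* F) 1 / (Units.mk0 t ht)⁻¹) : Fˣ) : F) = t
          rw [map_one, one_div, inv_inv, one_mul, Units.val_mk0]
        · refine (h3 0 b 0).trans ?_
          show S.e 0 _ _ = S.e 0 _ 0
          rw [mul_zero]
          congr 2)
    obtain ⟨h, h1, h3⟩ := hT 1 d
    obtain ⟨k, hk⟩ := hπ h
    have hz : (d : F) * σ d ≠ 1 := dσ_ne hσ d.ne_zero hd'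
    choose s0 hs0 using fun t => hπ (A S 0 t)
    choose s1 hs1 using fun t => hπ (A S 1 t)
    choose r0 hr0 using fun t => hπ (B S 0 t)
    choose r1 hr1 using fun t => hπ (B S 1 t)
    have hu : ∀ s, X₀ s = X₁ s := hat_unify hc (fun s => by rw [a1, b1]) a2 b2 (h := k) (μ := fun s => (d : F) * σ d * s)
      (fun s => ⟨((d : F) * σ d - 1)⁻¹ * s, by
        have := sub_ne_zero.2 hz
        field_simp
        ring⟩)
      (fun s => by
        have e := a3 1 s (s0 1) (r0 s) (hs0 1) (hr0 s)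
        rw [one_mul] at e
        rw [← e]
        have e' := a3 (chO σ 0 1 d : F) ((chE σ 2 1 d : F) * s) (k * s0 1 * k⁻¹) (k * r0 s * k⁻¹)
          (by rw [map_mul, map_mul, map_inv, hk, hs0]
              refine (h1 0 1).trans ?_
              rw [mul_one]; rfl)
          (by rw [map_mul, map_mul, map_inv, hk, hr0]
              refine (h3 2 s 0).trans ?_
              rw [mul_zero]; rfl)
        have e'' : (chO σ 0 1 d : F) * ((chE σ 2 1 d : F) * s) = (d : F) * σ d * s := by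
          show ((1 * d : Fˣ) : F) * (((Units.map (σ : F →* F) d / 1 : Fˣ) : F) * s) = _
          rw [one_mul, div_one, mul_assoc]; rfl
        rw [← e'', ← e']
        group)
      (fun s => by
        have e := b3 1 s (s1 1) (r1 s) (hs1 1) (hr1 s)
        rw [one_mul] at e
        rw [← e]
        have e' := b3 (chO σ 1 1 d : F) ((chE σ 0 1 d : F) * s) (k * s1 1 * k⁻¹) (k * r1 s * k⁻¹)
          (by rw [map_mul, map_mul, map_inv, hk, hs1]
              refine (h1 1 1).trans ?_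
              rw [mul_one]; rfl)
          (by rw [map_mul, map_mul, map_inv, hk, hr1]
              refine (h3 0 s 0).trans ?_
              rw [mul_zero]; rfl)
        have e'' : (chO σ 1 1 d : F) * ((chE σ 0 1 d : F) * s) = (d : F) * σ d * s := by
          show ((d * (Units.map (σ : F →* F) d / 1) : Fˣ) : F) * (((1 : Fˣ) : F) * s) = _
          rw [div_one, Units.val_one, one_mul]; rfl
        rw [← e'', ← e']
        group)
    refine ⟨X₀, a1, a2, ?_⟩
    rw [Fin.forall_fin_two]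
    exact ⟨a3, fun a b p q hp hq => by rw [hu]; exact b3 a b p q hp hq⟩

include hσ hT hd h2 in
/-- **The bound**, abstract version. -/
theorem ls_sys [Finite T] [Finite F] [IsSimpleGroup T] :
    LS.{u, v, w} 2 ((Nat.card F - 1) * Nat.card F ^ 2) T := by
  classical
  haveI : Fintype F := Fintype.ofFinite F
  have hc2 : CharP F 2 := CharTwo.of_one_ne_zero_of_two_eq_zero one_ne_zero h2
  choose h hh1 hh2 using fun t : Fˣ => hT 1 t
  have hinj : ∀ t t' : Fˣ, t ≠ t' → (t : F) * σ t - (t' : F) * σ t' ≠ 0 := by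
    intro t t' htt hcon
    have h0 : (t' : F) * σ t' ≠ 0 := mul_ne_zero t'.ne_zero ((map_ne_zero σ).2 t'.ne_zero)
    have h1 : ((t / t' : Fˣ) : F) * σ ((t / t' : Fˣ) : F) = 1 := by
      rw [Units.val_div_eq_div_val, map_div₀, div_mul_div_comm, div_eq_one_iff_eq h0]
      exact sub_eq_zero.1 hcon
    refine dσ_ne hσ (t / t').ne_zero ?_ h1
    intro h
    exact htt (div_eq_one.1 (Units.ext h))
  have key : LS.{u, v, w} 2 (Fintype.card Fˣ * ∏ _i : Fin 2, Fintype.card F) T :=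
    LS.heisG (r := 2) (heisG.{u, v} S h2 hσ hT hd) (fun s => by
      rw [← Nat.cast_smul_eq_nsmul F, CharP.cast_eq_zero, zero_smul]) (s₀ := (1 : F))
      (fun h => one_ne_zero (S.injE 1 0 1 0 0 (by rw [h, e_zero])).2)
      (fun _ n n' hnn s => ⟨(n - n')⁻¹ * s, by
        have := sub_ne_zero.2 hnn
        field_simp
        ring⟩) (o := fun _ => (0 : F)) (by
          rw [Fin.forall_fin_two]
          exact ⟨e_zero S 2, e_zero S 0⟩)
      (τ := Fˣ) (fun t => (h t)⁻¹) (fun t s => (t : F) * σ t * s)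
      (fun t t' htt s => ⟨((t : F) * σ t - (t' : F) * σ t')⁻¹ * s, by
        have := hinj t t' htt
        field_simp
        ring⟩)
      (fun t i a => (chO σ (i : ZMod 8) 1 t : F) * a)
      (fun t i a => ⟨(chO σ (i : ZMod 8) 1 t : F)⁻¹ * a, mul_inv_cancel_left₀ (chO σ (i : ZMod 8) 1 t).ne_zero a⟩)
      (by
        intro t
        rw [Fin.forall_fin_two]
        exact ⟨fun a => by rw [inv_inv]; exact hh1 t 0 a, fun a => by rw [inv_inv]; exact hh1 t 1 a⟩)
      (i₀ := 0) (fun t b => (chE σ 2 1 t : F) * b) (fun s => ⟨1, s, one_mul s⟩)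
      (fun t b => by
        rw [inv_inv]
        refine (hh2 t 2 b 0).trans ?_
        rw [mul_zero]; rfl)
      (fun t m n => by
        show ((1 * t : Fˣ) : F) * m * (((Units.map (σ : F →* F) t / 1 : Fˣ) : F) * n) = (t : F) * σ t * (m * n)
        rw [one_mul, div_one]
        show (t : F) * m * (σ t * n) = _
        ring)
  rw [Fintype.card_units, Finset.prod_const, Finset.card_univ, Fintype.card_fin,
    ← Nat.card_eq_fintype_card] at key
  exact key

end

/-- **`LS` for `²F₄(q)`, `q ≥ 8`: `(q - 1) q ^ 2`.** -/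
theorem ls {F : Type u} [Field F] [Fintype F] {m : ℕ} (hm : 1 ≤ m) (hF : Fintype.card F = 2 ^ (2 * m + 1)) :
    LS.{u, v, w} 2 ((Nat.card F - 1) * Nat.card F ^ 2) ↥(twistedF4 F (2 ^ m)) := by
  haveI := (Cfsg.Agent.S1072.result hm hF).1
  haveI : CharP F 2 := charP_of_card Nat.prime_two hF
  obtain ⟨φ, hφ⟩ := Cfsg.Agent.ChevalleyStructure.TwF4.TwistedFix.exists_rln hF
  have h2 : (2 : F) = 0 := by exact_mod_cast CharP.cast_eq_zero F 2
  classical
  have hcard : Fintype.card Fˣ = 2 ^ (2 * m + 1) - 1 := by rw [Fintype.card_units, hF]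
  have h8 : 2 ^ 3 ≤ 2 ^ (2 * m + 1) := Nat.pow_le_pow_right (by norm_num) (by omega)
  haveI : Nontrivial Fˣ := Fintype.one_lt_card_iff_nontrivial.1 (by rw [hcard]; omega)
  obtain ⟨d, hd⟩ := exists_ne (1 : Fˣ)
  haveI : Finite ↥(twistedF4 F (2 ^ m)) := Subtype.finite
  refine ls_sys (sys hφ) h2 (Cfsg.Agent.Octagon.KPar.sq_phi hφ) (fun c d => ?_) hd
  obtain ⟨h, -, h1, h3⟩ := exists_torus hφ c d
  exact ⟨h, h1, h3⟩

end Cfsg.Agent.H203.LS.TwF4
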